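import Groth.Agent.Lib.Gerb.Local
import Mathlib.Algebra.Category.Grp.Limits
import Mathlib.CategoryTheory.Sites.Whiskering

/-!
# The band of a commutative gerbe

The sheaf of natural automorphisms: a section over `U` assigns to every object `x` with a morphism
`p x ⟶ U` an automorphism of `x` over the identity, compatibly with all morphisms.
-/

set_option autoImplicit false
set_option backward.isDefEq.respectTransparency false
set_option backward.isDefEq.respectTransparency.types false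

universe v u

open CategoryTheory CategoryTheory.Functor Opposite Groth.Agent.Lib.Fibred.Basic
  Groth.Agent.Lib.Fibred.Descent Groth.Agent.Lib.Fibred.StackLemmas Groth.Agent.Lib.Gerb.Local

namespace Groth.Agent.Lib.Gerb.Band

variable {C : Type u} [Category.{v} C] {J : GrothendieckTopology C}
  (𝒮 : BasedCategory.{v, max u v} C)

/-- Choices of an automorphism of every object over `U`. -/
abbrev Pre (U : C) : Type (max u v) := ∀ (x : 𝒮.obj) (_ : 𝒮.p.obj x ⟶ U), Gerb.AutO x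

/-- A choice of automorphisms commutes with all morphisms. -/
def IsNatural {U : C} (a : Pre 𝒮 U) : Prop :=
  ∀ ⦃x x' : 𝒮.obj⦄ (φ : x' ⟶ x) (f : 𝒮.p.obj x ⟶ U),
    (a x' (𝒮.p.map φ ≫ f)).hom.1 ≫ φ = φ ≫ (a x f).hom.1

lemma one_val (x : 𝒮.obj) : (1 : Gerb.AutO x).hom.1 = 𝟙 x := rfl

lemma mul_val {x : 𝒮.obj} (α β : Gerb.AutO x) : (α * β).hom.1 = β.hom.1 ≫ α.hom.1 := rfl

lemma val_inv {x : 𝒮.obj} (α : Gerb.AutO x) : α.hom.1 ≫ (α⁻¹).hom.1 = 𝟙 x := by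
  rw [← mul_val, inv_mul_cancel, one_val]

lemma inv_val {x : 𝒮.obj} (α : Gerb.AutO x) : (α⁻¹).hom.1 ≫ α.hom.1 = 𝟙 x := by
  rw [← mul_val, mul_inv_cancel, one_val]

/-- The sections over `U`. -/
def Sec (U : C) : Subgroup (Pre 𝒮 U) where
  carrier := {a | IsNatural 𝒮 a}
  one_mem' := fun x x' φ f => (Category.id_comp φ).trans (Category.comp_id φ).symm
  mul_mem' := fun {a b} ha hb x x' φ f => by
    simp only [Pi.mul_apply, mul_val]
    rw [Category.assoc, ha φ f, reassoc_of% (hb φ f)]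
  inv_mem' := fun {a} ha x x' φ f => by
    simp only [Pi.inv_apply]
    calc ((a x' (𝒮.p.map φ ≫ f))⁻¹).hom.1 ≫ φ
        = ((a x' (𝒮.p.map φ ≫ f))⁻¹).hom.1 ≫ φ ≫ (a x f).hom.1 ≫ ((a x f)⁻¹).hom.1 := by
          erw [val_inv, Category.comp_id]
      _ = ((a x' (𝒮.p.map φ ≫ f))⁻¹).hom.1 ≫ (a x' (𝒮.p.map φ ≫ f)).hom.1 ≫ φ ≫ ((a x f)⁻¹).hom.1 := by
          rw [reassoc_of% (ha φ f)]
      _ = φ ≫ ((a x f)⁻¹).hom.1 := by
          rw [← Category.assoc, ← Category.assoc]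
          erw [inv_val, Category.id_comp]

/-- Restriction of sections. -/
def res {U V : C} (g : V ⟶ U) : Sec 𝒮 U →* Sec 𝒮 V where
  toFun a := ⟨fun x f => a.1 x (f ≫ g), fun x x' φ f => by
    have := a.2 φ (f ≫ g)
    rwa [← Category.assoc] at this⟩
  map_one' := rfl
  map_mul' _ _ := rfl

lemma res_apply {U V : C} (g : V ⟶ U) (a : Sec 𝒮 U) (x : 𝒮.obj) (f : 𝒮.p.obj x ⟶ V) :
    (res 𝒮 g a).1 x f = a.1 x (f ≫ g) := rfl

/-- The presheaf of sections. -/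
def psh : Cᵒᵖ ⥤ GrpCat.{max u v} where
  obj U := GrpCat.of (Sec 𝒮 U.unop)
  map g := GrpCat.ofHom (res 𝒮 g.unop)
  map_id U := GrpCat.hom_ext (MonoidHom.ext fun a => Subtype.ext (funext fun x => funext fun f =>
    congrArg (a.1 x) (Category.comp_id f)))
  map_comp {U V W} g h := GrpCat.hom_ext (MonoidHom.ext fun a => Subtype.ext (funext fun x => funext fun f =>
    congrArg (a.1 x) (Category.assoc f h.unop g.unop).symm))

variable {𝒮}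

lemma autO_ext {x : 𝒮.obj} {α β : Gerb.AutO x} (h : α.hom.1 = β.hom.1) : α = β :=
  Aut.ext (Fiber.hom_ext h)

section Extend

variable (h : FibCat.IsFibGrpd 𝒮.p) (hJ : Stk.IsStack J 𝒮) {U : C}
  (Good : ∀ z : 𝒮.obj, (𝒮.p.obj z ⟶ U) → Prop)
  (hclosed : ∀ ⦃z z' : 𝒮.obj⦄ (ψ : z' ⟶ z) (k : 𝒮.p.obj z ⟶ U), Good z k → Good z' (𝒮.p.map ψ ≫ k))

include h hclosed in
/-- The sieve of good restrictions. -/
def goodSieve (y : 𝒮.obj) (f : 𝒮.p.obj y ⟶ U) : Sieve (𝒮.p.obj y) where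
  arrows V g := ∃ (z : 𝒮.obj) (ψ : z ⟶ y), 𝒮.p.IsHomLift g ψ ∧ Good z (𝒮.p.map ψ ≫ f)
  downward_closed := by
    rintro V V' g ⟨z, ψ, hψ, hgood⟩ k
    obtain ⟨z', ρ, hρ⟩ := exists_lift h (IsHomLift.domain_eq 𝒮.p g ψ) k
    refine ⟨z', ρ ≫ ψ, inferInstance, ?_⟩
    rw [Functor.map_comp, Category.assoc]
    exact hclosed ρ _ hgood

variable (hcov : ∀ (y : 𝒮.obj) (f : 𝒮.p.obj y ⟶ U), goodSieve h Good hclosed y f ∈ J (𝒮.p.obj y))

include hJ hcov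

/-- Sections agreeing on good objects are equal. -/
theorem sec_ext (a a' : Sec 𝒮 U) (e : ∀ z k, Good z k → a.1 z k = a'.1 z k) : a = a' := by
  refine Subtype.ext (funext fun y => funext fun f => autO_ext ?_)
  obtain ⟨hS, -, -⟩ := (isStackFor_iff h).mp (hJ.2 _ (hcov y f))
  refine hS _ _ (a.1 y f).hom.2 (a'.1 y f).hom.2 fun V g hg w χ hχ => ?_
  obtain ⟨z, ψ, hψ, hgood⟩ := hg
  obtain ⟨ν, -, rfl⟩ := exists_factor h ψ hψ χ hχ
  rw [Category.assoc, Category.assoc, ← a.2 ψ f, ← a'.2 ψ f, e z _ hgood]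

/-- Natural automorphisms of good objects extend to a section. -/
theorem exists_sec (b : ∀ z k, Good z k → Gerb.AutO z)
    (hb : ∀ ⦃z z' : 𝒮.obj⦄ (ψ : z' ⟶ z) (k : 𝒮.p.obj z ⟶ U) (hk : Good z k),
      (b z' _ (hclosed ψ k hk)).hom.1 ≫ ψ = ψ ≫ (b z k hk).hom.1) :
    ∃ a : Sec 𝒮 U, ∀ z k (hk : Good z k), a.1 z k = b z k hk := by
  have bcongr : ∀ (z : 𝒮.obj) (k k' : 𝒮.p.obj z ⟶ U) (_ : k = k') (hk : Good z k) (hk' : Good z k'),
      b z k hk = b z k' hk' := by rintro z k k' rfl _ _; rfl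
  have ex : ∀ (y : 𝒮.obj) (f : 𝒮.p.obj y ⟶ U), ∃ a : Gerb.AutO y,
      ∀ (z : 𝒮.obj) (ψ : z ⟶ y) (hg : Good z (𝒮.p.map ψ ≫ f)), ψ ≫ a.hom.1 = (b z _ hg).hom.1 ≫ ψ := by
    intro y f
    obtain ⟨-, hG, -⟩ := (isStackFor_iff h).mp (hJ.2 _ (hcov y f))
    have hgood : ∀ ⦃V : C⦄ (g : V ⟶ 𝒮.p.obj y), (goodSieve h Good hclosed y f).arrows g → ∀ ⦃z : 𝒮.obj⦄
        (ψ : z ⟶ y), 𝒮.p.IsHomLift g ψ → Good z (𝒮.p.map ψ ≫ f) := by
      rintro V g ⟨z₀, ψ₀, hψ₀, h₀⟩ z ψ hψ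
      obtain ⟨θ, -, rfl⟩ := exists_factor h ψ₀ hψ₀ ψ hψ
      rw [Functor.map_comp, Category.assoc]
      exact hclosed θ _ h₀
    let c : Fam (goodSieve h Good hclosed y f) 𝒮 y y := fun V g hg z ψ hψ =>
      (b z _ (hgood g hg ψ hψ)).hom.1 ≫ ψ
    have hc : c.Compatible := by
      refine ⟨fun V g hg z ψ hψ => ?_, fun V g hg z ψ hψ V' k z' ρ hρ hψ' => ?_⟩
      · obtain rfl : 𝒮.p.obj z = V := IsHomLift.domain_eq 𝒮.p g ψ
        have : 𝒮.p.IsHomLift (𝟙 (𝒮.p.obj z)) (b z _ (hgood g hg ψ hψ)).hom.1 :=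
          (b z _ (hgood g hg ψ hψ)).hom.2
        change 𝒮.p.IsHomLift g ((b z _ (hgood g hg ψ hψ)).hom.1 ≫ ψ)
        infer_instance
      · change (b z' (𝒮.p.map (ρ ≫ ψ) ≫ f) _).hom.1 ≫ ρ ≫ ψ = ρ ≫ (b z _ _).hom.1 ≫ ψ
        rw [← Category.assoc, ← Category.assoc]
        congr 1
        rw [bcongr z' (𝒮.p.map (ρ ≫ ψ) ≫ f) (𝒮.p.map ρ ≫ 𝒮.p.map ψ ≫ f) (by simp) _
          (hclosed ρ _ (hgood g hg ψ hψ))]
        exact hb ρ _ _
    obtain ⟨a, ha, hae⟩ := hG rfl rfl c hc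
    exact ⟨toAutO h a ha, fun z ψ hg => hae (𝒮.p.map ψ) ⟨z, ψ, inferInstance, hg⟩ ψ inferInstance⟩
  choose a ha using ex
  refine ⟨⟨a, fun x x' φ f => ?_⟩, fun z k hk => autO_ext ?_⟩
  · have : 𝒮.p.IsHomLift (𝟙 (𝒮.p.obj x)) (a x f).hom.1 := (a x f).hom.2
    obtain ⟨k, hk, hke⟩ := exists_factor h φ (IsHomLift.map 𝒮.p φ) (φ ≫ (a x f).hom.1) inferInstance
    suffices k = (a x' (𝒮.p.map φ ≫ f)).hom.1 by rw [← this, hke]
    obtain ⟨hS, -, -⟩ := (isStackFor_iff h).mp (hJ.2 _ (hcov x' (𝒮.p.map φ ≫ f)))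
    refine hS _ _ hk (a x' (𝒮.p.map φ ≫ f)).hom.2 fun V g hg w χ hχ => ?_
    obtain ⟨z, ψ, hψ, hgood⟩ := hg
    obtain ⟨ν, -, rfl⟩ := exists_factor h ψ hψ χ hχ
    obtain rfl : 𝒮.p.obj z = V := IsHomLift.domain_eq 𝒮.p g ψ
    rw [Category.assoc, Category.assoc]
    congr 1
    have := (a x' (𝒮.p.map φ ≫ f)).hom.2
    refine ext_lift h φ (IsHomLift.map 𝒮.p φ) (g := g) inferInstance inferInstance ?_
    have hgood' : Good z (𝒮.p.map (ψ ≫ φ) ≫ f) := by rwa [Functor.map_comp, Category.assoc]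
    rw [Category.assoc, hke, ← Category.assoc ψ φ, ha x f z (ψ ≫ φ) hgood',
      ha x' _ z ψ hgood, Category.assoc]
    rw [bcongr z (𝒮.p.map (ψ ≫ φ) ≫ f) (𝒮.p.map ψ ≫ 𝒮.p.map φ ≫ f) (by simp) hgood' hgood]
  · have hk' : Good z (𝒮.p.map (𝟙 z) ≫ k) := by rwa [CategoryTheory.Functor.map_id, Category.id_comp]
    have e := ha z k z (𝟙 z) hk'
    rw [Category.id_comp, Category.comp_id, bcongr z _ k (by simp) hk' hk] at e
    exact e

end Extend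

/-- The presheaf of sections of a stack is a sheaf. -/
theorem isSheaf_psh (hJ : Stk.IsStack J 𝒮) : Presheaf.IsSheaf J (psh 𝒮) := by
  have h : FibCat.IsFibGrpd 𝒮.p := hJ.1
  refine (Presheaf.isSheaf_iff_isSheaf_forget J (psh 𝒮) (forget GrpCat)).mpr ?_
  rw [isSheaf_iff_isSheaf_of_type]
  intro U R hR s hs
  let Good : ∀ z : 𝒮.obj, (𝒮.p.obj z ⟶ U) → Prop := fun z k => R.arrows k
  have hclosed : ∀ ⦃z z' : 𝒮.obj⦄ (ψ : z' ⟶ z) (k : 𝒮.p.obj z ⟶ U), Good z k → Good z' (𝒮.p.map ψ ≫ k) :=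
    fun z z' ψ k hk => R.downward_closed hk _
  have hcov : ∀ (y : 𝒮.obj) (f : 𝒮.p.obj y ⟶ U), goodSieve h Good hclosed y f ∈ J (𝒮.p.obj y) := by
    intro y f
    refine J.superset_covering (fun V g hg => ?_) (J.pullback_stable f hR)
    obtain ⟨z, ψ, hψ⟩ := exists_lift h (rfl : 𝒮.p.obj y = _) g
    refine ⟨z, ψ, hψ, ?_⟩
    show R.arrows _
    rw [IsHomLift.fac' 𝒮.p g ψ]
    simp only [eqToHom_refl, Category.comp_id, Category.assoc]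
    exact R.downward_closed hg _
  let S : ∀ {V : C} (g : V ⟶ U), R.arrows g → Sec 𝒮 V := fun g hg => s g hg
  have hS : ∀ {V W : C} (m : W ⟶ V) (g : V ⟶ U) (hg : R.arrows g) (hmg : R.arrows (m ≫ g)),
      res 𝒮 m (S g hg) = S (m ≫ g) hmg := fun m g hg hmg =>
    ((Presieve.compatible_iff_sieveCompatible s).mp hs g m hg).symm
  obtain ⟨t, ht⟩ := exists_sec h hJ Good hclosed hcov (fun z k hk => (S k hk).1 z (𝟙 _))
    (fun z z' ψ k hk => by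
      rw [← hS (𝒮.p.map ψ) k hk (hclosed ψ k hk), res_apply, ← (S k hk).2 ψ (𝟙 _), Category.id_comp,
        Category.comp_id])
  refine ⟨t, fun V g hg => ?_, fun t' ht' => ?_⟩
  · refine Subtype.ext (funext fun z => funext fun k => ?_)
    change t.1 z (k ≫ g) = (S g hg).1 z k
    rw [ht z (k ≫ g) (R.downward_closed hg k), ← hS k g hg (R.downward_closed hg k), res_apply,
      Category.id_comp]
  · refine sec_ext h hJ Good hclosed hcov t' t fun z k hk => ?_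
    have e : res 𝒮 k t' = S k hk := ht' k hk
    rw [ht z k hk, ← e, res_apply, Category.id_comp]

/-- Evaluation at an object over `U`. -/
def evalHom (x : 𝒮.obj) : Sec 𝒮 (𝒮.p.obj x) →* Gerb.AutO x where
  toFun a := a.1 x (𝟙 _)
  map_one' := rfl
  map_mul' _ _ := rfl

/-- In a commutative gerbe evaluation is bijective. -/
theorem evalHom_bijective (hJ : Gerb.IsGerbe J 𝒮) (hcomm : ∀ (x : 𝒮.obj) (α β : Gerb.AutO x), α * β = β * α)
    (x : 𝒮.obj) : Function.Bijective (evalHom x) := by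
  have h : FibCat.IsFibGrpd 𝒮.p := hJ.1.1
  let Good : ∀ z : 𝒮.obj, (𝒮.p.obj z ⟶ 𝒮.p.obj x) → Prop := fun z k => ∃ χ : z ⟶ x, 𝒮.p.map χ = k
  have hclosed : ∀ ⦃z z' : 𝒮.obj⦄ (ψ : z' ⟶ z) (k : 𝒮.p.obj z ⟶ 𝒮.p.obj x), Good z k →
      Good z' (𝒮.p.map ψ ≫ k) := by
    rintro z z' ψ k ⟨χ, rfl⟩
    exact ⟨ψ ≫ χ, 𝒮.p.map_comp ψ χ⟩
  have hcov : ∀ (y : 𝒮.obj) (f : 𝒮.p.obj y ⟶ 𝒮.p.obj x), goodSieve h Good hclosed y f ∈ J (𝒮.p.obj y) := by
    intro y f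
    obtain ⟨x', c, hc⟩ := exists_lift h (rfl : 𝒮.p.obj x = _) f
    obtain ⟨R, hR, hl⟩ := locIso hJ (rfl : 𝒮.p.obj y = _) (IsHomLift.domain_eq 𝒮.p f c)
    refine J.superset_covering (fun V g hg => ?_) hR
    obtain ⟨z, ψ, χ, hψ, hχ⟩ := hl g hg
    refine ⟨z, ψ, hψ, χ ≫ c, ?_⟩
    have : 𝒮.p.IsHomLift (g ≫ f) (χ ≫ c) := inferInstance
    rw [IsHomLift.fac' 𝒮.p (g ≫ f) (χ ≫ c), IsHomLift.fac' 𝒮.p g ψ]
    simp
  constructor
  · intro a a' e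
    refine sec_ext h hJ.1 Good hclosed hcov a a' ?_
    rintro z k ⟨χ, rfl⟩
    refine autO_ext (ext_lift h χ (IsHomLift.map 𝒮.p χ) (a.1 z _).hom.2 (a'.1 z _).hom.2 ?_)
    have e1 := a.2 χ (𝟙 _)
    have e2 := a'.2 χ (𝟙 _)
    rw [Category.comp_id] at e1 e2
    rw [e1, e2]
    exact congrArg (fun α : Gerb.AutO x => χ ≫ α.hom.1) e
  · intro β
    have : 𝒮.p.IsHomLift (𝟙 (𝒮.p.obj x)) β.hom.1 := β.hom.2
    have ex : ∀ z k, Good z k → ∃ α : Gerb.AutO z,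
        ∀ χ : z ⟶ x, 𝒮.p.map χ = k → α.hom.1 ≫ χ = χ ≫ β.hom.1 := by
      rintro z k ⟨χ, rfl⟩
      obtain ⟨α, hα, hαe⟩ := exists_factor h χ (IsHomLift.map 𝒮.p χ) (χ ≫ β.hom.1) inferInstance
      refine ⟨toAutO h α hα, fun χ' hχ' => ?_⟩
      obtain ⟨θ, hθ, rfl⟩ := exists_factor h χ (IsHomLift.map 𝒮.p χ) χ'
        (hχ' ▸ IsHomLift.map 𝒮.p χ')
      have hc : α ≫ θ = θ ≫ α :=
        congrArg (fun a : Gerb.AutO z => a.hom.1) (hcomm z (toAutO h θ hθ) (toAutO h α hα))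
      change α ≫ θ ≫ χ = (θ ≫ χ) ≫ β.hom.1
      rw [reassoc_of% hc, hαe, Category.assoc]
    choose b hb using ex
    obtain ⟨a, ha⟩ := exists_sec h hJ.1 Good hclosed hcov b (fun z z' ψ k hk => by
      obtain ⟨χ, hχ⟩ := hk
      have h1 := hb z k ⟨χ, hχ⟩ χ hχ
      have h2 := hb z' _ (hclosed ψ k ⟨χ, hχ⟩) (ψ ≫ χ) (by rw [Functor.map_comp, hχ])
      have := (b z k ⟨χ, hχ⟩).hom.2
      have := (b z' _ (hclosed ψ k ⟨χ, hχ⟩)).hom.2
      refine ext_lift h χ (IsHomLift.map 𝒮.p χ) (g := 𝒮.p.map ψ)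
        inferInstance inferInstance ?_
      rw [Category.assoc, Category.assoc, h1, h2, Category.assoc])
    refine ⟨a, ?_⟩
    have hx : Good x (𝟙 _) := ⟨𝟙 x, 𝒮.p.map_id x⟩
    refine (ha x _ hx).trans (autO_ext ?_)
    simpa using hb x _ hx (𝟙 x) (𝒮.p.map_id x)

/-- The banding by the sheaf of sections. -/
noncomputable def banding (hJ : Gerb.IsGerbe J 𝒮)
    (hcomm : ∀ (x : 𝒮.obj) (α β : Gerb.AutO x), α * β = β * α) : Gerb.Banding 𝒮 (psh 𝒮) where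
  iso x := MulEquiv.ofBijective (evalHom x) (evalHom_bijective hJ hcomm x)
  natural {x' x} φ a := by
    change (a.1 x' (𝟙 _ ≫ 𝒮.p.map φ)).hom.1 ≫ φ = φ ≫ (a.1 x (𝟙 _)).hom.1
    rw [← a.2 φ (𝟙 _), Category.id_comp, Category.comp_id]

end Groth.Agent.Lib.Gerb.Band
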