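import Groth.Prelude.Def_StGerb2
import Groth.Agent.Lib.Fibred.StackLocal

/-!
# Gerbes over a site with a global object

Any object is locally a pullback of the global object; functors of gerbes bijective on the automorphisms
of these pullbacks are equivalences.
-/

set_option autoImplicit false
set_option backward.isDefEq.respectTransparency false
set_option backward.isDefEq.respectTransparency.types false

universe v₂ u₂ v₃ u₃ v u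

open CategoryTheory CategoryTheory.Functor Groth.Agent.Lib.Fibred.Basic Groth.Agent.Lib.Fibred.EquivOver
  Groth.Agent.Lib.Fibred.Descent Groth.Agent.Lib.Fibred.StackLemmas Groth.Agent.Lib.Fibred.StackLocal

namespace Groth.Agent.Lib.Gerb.Local

variable {C : Type u} [Category.{v} C] {J : GrothendieckTopology C}
  {𝒳 : BasedCategory.{v₂, u₂} C} {𝒴 : BasedCategory.{v₃, u₃} C}

theorem mem_of_locally_mem {U : C} (R : Sieve U) (R' : Sieve U) (hR' : R' ∈ J U)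
    (h : ∀ ⦃V : C⦄ (f : V ⟶ U), R' f → ∃ T ∈ J V, ∀ ⦃W : C⦄ (g : W ⟶ V), T g → R (g ≫ f)) : R ∈ J U := by
  refine J.transitive hR' R fun V f hf => ?_
  obtain ⟨T, hT, hTR⟩ := h f hf
  exact J.superset_covering (fun W g hg => hTR g hg) hT

/-- Two objects of a gerbe over the same base object are locally isomorphic. -/
theorem locIso (h : Gerb.IsGerbe J 𝒳) {U : C} {x x' : 𝒳.obj} (hx : 𝒳.p.obj x = U) (hx' : 𝒳.p.obj x' = U) :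
    ∃ R ∈ J U, ∀ ⦃V : C⦄ (f : V ⟶ U), R f → ∃ (x₀ : 𝒳.obj) (ψ : x₀ ⟶ x) (χ : x₀ ⟶ x'),
      𝒳.p.IsHomLift f ψ ∧ 𝒳.p.IsHomLift f χ := by
  subst hx
  have hb : (FibCat.selfOver C).p.IsHomLift (𝟙 (𝒳.p.obj x)) (eqToHom hx'.symm : 𝒳.p.obj x ⟶ 𝒳.p.obj x') := by
    apply IsHomLift.of_fac' (FibCat.selfOver C).p _ _ rfl hx'
    exact ((Category.id_comp _).trans (Category.id_comp _)).symm
  obtain ⟨R, hR, hl⟩ := h.2.2 x x' (eqToHom hx'.symm) hb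
  refine ⟨R, hR, fun V f hf => ?_⟩
  obtain ⟨x₀, ψ, χ, hψ, hχ, -⟩ := hl f hf
  exact ⟨x₀, ψ, χ, hψ, hχ⟩

theorem isHomLift_id_congr {A B : C} (e : A = B) {a b : 𝒳.obj} (θ : a ⟶ b) (h : 𝒳.p.IsHomLift (𝟙 A) θ) :
    𝒳.p.IsHomLift (𝟙 B) θ := by
  subst e; exact h

variable (φ : 𝒳 ⥤ᵇ 𝒴)

/-- A lift of a morphism between images. -/
def liftSieve (h𝒳 : FibCat.IsFibGrpd 𝒳.p) {U : C} {a b : 𝒳.obj} (g : φ.obj a ⟶ φ.obj b) : Sieve U where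
  arrows V f := ∃ (z : 𝒳.obj) (ψ : z ⟶ a) (k : z ⟶ b), 𝒳.p.IsHomLift f ψ ∧ 𝒳.p.IsHomLift f k ∧
    φ.map k = φ.map ψ ≫ g
  downward_closed := by
    rintro V V' f ⟨z, ψ, k, hψ, hk, e⟩ h
    obtain ⟨z', ρ, hρ⟩ := exists_lift h𝒳 (IsHomLift.domain_eq 𝒳.p f ψ) h
    exact ⟨z', ρ ≫ ψ, ρ ≫ k, inferInstance, inferInstance, by
      rw [φ.toFunctor.map_comp, e, φ.toFunctor.map_comp, Category.assoc]⟩

variable {φ}

/-- Gluing the local lifts of a vertical morphism along a faithful functor of stacks. -/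
theorem exists_lift_of_locally (h𝒳 : Stk.IsStack J 𝒳) (h𝒴 : Stk.IsStack J 𝒴) [φ.toFunctor.Faithful]
    {U : C} {a b : 𝒳.obj} (ha : 𝒳.p.obj a = U) (hb : 𝒳.p.obj b = U) (g : φ.obj a ⟶ φ.obj b)
    (hg : 𝒴.p.IsHomLift (𝟙 U) g) (hR : liftSieve φ h𝒳.1 g ∈ J U) :
    ∃ k : a ⟶ b, 𝒳.p.IsHomLift (𝟙 U) k ∧ φ.map k = g := by
  have ex : ∀ ⦃V : C⦄ (f : V ⟶ U), (liftSieve φ h𝒳.1 (U := U) g).arrows f → ∀ ⦃z : 𝒳.obj⦄ (ψ : z ⟶ a),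
      𝒳.p.IsHomLift f ψ → ∃ k : z ⟶ b, 𝒳.p.IsHomLift f k ∧ φ.map k = φ.map ψ ≫ g := by
    rintro V f ⟨z₀, ψ₀, k₀, hψ₀, hk₀, e⟩ z ψ hψ
    obtain ⟨ν, hν, rfl⟩ := exists_factor h𝒳.1 ψ₀ hψ₀ ψ hψ
    exact ⟨ν ≫ k₀, IsHomLift.comp_lift_id_left' 𝒳.p V ν f k₀,
      by rw [φ.toFunctor.map_comp, e, φ.toFunctor.map_comp, Category.assoc]⟩
  choose c hc hce using ex
  obtain ⟨-, hG, -⟩ := (isStackFor_iff h𝒳.1).mp (h𝒳.2 _ hR)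
  obtain ⟨k, hk, hke⟩ := hG ha hb c ⟨hc, fun V f hf z ψ hψ V' h z' ρ hρ hψ' => φ.toFunctor.map_injective (by
    rw [hce, φ.toFunctor.map_comp, φ.toFunctor.map_comp, hce, Category.assoc])⟩
  refine ⟨k, hk, ?_⟩
  obtain ⟨hS, -, -⟩ := (isStackFor_iff h𝒴.1).mp (h𝒴.2 _ hR)
  refine hS (φ.map k) g inferInstance hg fun V f hf z ψ hψ => ?_
  obtain ⟨z₀, ψ₀, hψ₀⟩ := exists_lift h𝒳.1 ha f
  obtain ⟨ν, -, rfl⟩ := exists_factor h𝒴.1 (φ.map ψ₀) inferInstance ψ hψ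
  rw [Category.assoc, Category.assoc, ← φ.toFunctor.map_comp, hke f hf ψ₀ hψ₀, hce]

/-- A vertical endomorphism as an automorphism over the identity. -/
noncomputable def toAutO (h : FibCat.IsFibGrpd 𝒳.p) {x : 𝒳.obj} (θ : x ⟶ x)
    (hθ : 𝒳.p.IsHomLift (𝟙 (𝒳.p.obj x)) θ) : Gerb.AutO x :=
  haveI := isIso_of_vertical h θ hθ
  { hom := ⟨θ, hθ⟩
    inv := ⟨inv θ, inferInstance⟩
    hom_inv_id := Fiber.hom_ext (IsIso.hom_inv_id θ)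
    inv_hom_id := Fiber.hom_ext (IsIso.inv_hom_id θ) }

theorem toAutO_val (h : FibCat.IsFibGrpd 𝒳.p) {x : 𝒳.obj} (θ : x ⟶ x)
    (hθ : 𝒳.p.IsHomLift (𝟙 (𝒳.p.obj x)) θ) : (toAutO h θ hθ).hom.1 = θ := rfl

section Global

variable {T : C} (hT : ∀ U : C, Nonempty (U ⟶ T)) (s : 𝒳.obj) (hs : 𝒳.p.obj s = T)
include hT hs

/-- Every object of a gerbe is locally a pullback of a global object. -/
theorem locPullback (h : Gerb.IsGerbe J 𝒳) {U : C} {x : 𝒳.obj} (hx : 𝒳.p.obj x = U) :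
    ∃ R ∈ J U, ∀ ⦃V : C⦄ (f : V ⟶ U), R f → ∃ (x₀ : 𝒳.obj) (ψ : x₀ ⟶ x) (_ : x₀ ⟶ s),
      𝒳.p.IsHomLift f ψ := by
  obtain ⟨t⟩ := hT U
  obtain ⟨z, c, hc⟩ := exists_lift h.1.1 hs t
  obtain ⟨R, hR, hl⟩ := locIso h hx (IsHomLift.domain_eq 𝒳.p t c)
  refine ⟨R, hR, fun V f hf => ?_⟩
  obtain ⟨x₀, ψ, χ, hψ, -⟩ := hl f hf
  exact ⟨x₀, ψ, χ ≫ c, hψ⟩

/-- A functor of gerbes bijective on the automorphisms of the pullbacks of a global object is an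
equivalence. -/
theorem isEquivOver_of_bijective_autMap (h𝒳 : Gerb.IsGerbe J 𝒳) (h𝒴 : Gerb.IsGerbe J 𝒴)
    (hφ : ∀ (x : 𝒳.obj) (_ : x ⟶ s), Function.Bijective (Gerb.autMap φ x)) : FibCat.IsEquivOver φ := by
  have g𝒳 : FibCat.IsFibGrpd 𝒳.p := h𝒳.1.1
  have g𝒴 : FibCat.IsFibGrpd 𝒴.p := h𝒴.1.1
  have hfaith : φ.toFunctor.Faithful := by
    refine faithful_of_vertical φ g𝒳 g𝒴 fun x θ hθ he => ?_
    obtain ⟨R, hR, hl⟩ := locPullback hT s hs h𝒳 (rfl : 𝒳.p.obj x = _)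
    obtain ⟨hS, -, -⟩ := (isStackFor_iff g𝒳).mp (h𝒳.1.2 R hR)
    refine eq_id_of_locally g𝒳 hS θ hθ fun V f hf => ?_
    obtain ⟨x₀, ψ, c, hψ⟩ := hl f hf
    refine ⟨x₀, ψ, hψ, fun θ' hθ' e => ?_⟩
    obtain rfl : 𝒳.p.obj x₀ = V := IsHomLift.domain_eq 𝒳.p f ψ
    have e' : φ.map θ' = 𝟙 (φ.obj x₀) := by
      refine ext_lift g𝒴 (φ.map ψ) (f := f) inferInstance (g := 𝟙 (𝒳.p.obj x₀)) inferInstance
        (IsHomLift.id (φ.w_obj x₀)) ?_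
      rw [← φ.toFunctor.map_comp, e, φ.toFunctor.map_comp, he, Category.comp_id, Category.id_comp]
    have h1 : toAutO g𝒳 θ' hθ' = 1 := (hφ x₀ c).1 (by
      apply Aut.ext
      apply Fiber.hom_ext
      rw [map_one]
      exact e')
    exact congrArg (fun α : Gerb.AutO x₀ => α.hom.1) h1
  have hvert : ∀ {U : C} {a b : 𝒳.obj}, 𝒳.p.obj a = U → 𝒳.p.obj b = U → ∀ g : φ.obj a ⟶ φ.obj b,
      𝒴.p.IsHomLift (𝟙 U) g → ∃ k : a ⟶ b, 𝒳.p.IsHomLift (𝟙 U) k ∧ φ.map k = g := by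
    intro U a b ha hb g hg
    refine exists_lift_of_locally h𝒳.1 h𝒴.1 ha hb g hg ?_
    obtain ⟨R, hR, hl⟩ := locIso h𝒳 ha hb
    refine mem_of_locally_mem _ R hR fun V f hf => ?_
    obtain ⟨x₀, ψ, χ, hψ, hχ⟩ := hl f hf
    obtain ⟨g₀, hg₀, hg₀e⟩ := exists_factor g𝒴 (φ.map χ) (f := f) inferInstance (φ.map ψ ≫ g) inferInstance
    obtain ⟨R₂, hR₂, hl₂⟩ := locPullback hT s hs h𝒳 (IsHomLift.domain_eq 𝒳.p f ψ)
    refine ⟨R₂, hR₂, fun W h hh => ?_⟩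
    obtain ⟨x₁, ρ, c, hρ⟩ := hl₂ h hh
    obtain rfl : 𝒳.p.obj x₁ = W := IsHomLift.domain_eq 𝒳.p h ρ
    obtain ⟨g₁, hg₁, hg₁e⟩ := exists_factor g𝒴 (φ.map ρ) (f := h) inferInstance (φ.map ρ ≫ g₀) inferInstance
    have hg₁' : 𝒴.p.IsHomLift (𝟙 (𝒴.p.obj (φ.obj x₁))) g₁ := by rw [φ.w_obj x₁]; exact hg₁
    obtain ⟨α, hα⟩ := (hφ x₁ c).2 (toAutO g𝒴 g₁ hg₁')
    have hα' : φ.map α.hom.1 = g₁ := congrArg (fun β : Gerb.AutO (φ.obj x₁) => β.hom.1) hα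
    have : 𝒳.p.IsHomLift (𝟙 (𝒳.p.obj x₁)) α.hom.1 := α.hom.2
    refine ⟨x₁, ρ ≫ ψ, α.hom.1 ≫ ρ ≫ χ, inferInstance, inferInstance, ?_⟩
    rw [φ.toFunctor.map_comp, φ.toFunctor.map_comp, hα', reassoc_of% hg₁e, hg₀e, φ.toFunctor.map_comp,
      Category.assoc]
  have hfull : φ.toFunctor.Full := by
    refine ⟨fun {a b} g => ?_⟩
    let f : 𝒳.p.obj a ⟶ 𝒳.p.obj b := eqToHom (φ.w_obj a).symm ≫ 𝒴.p.map g ≫ eqToHom (φ.w_obj b)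
    have hg : 𝒴.p.IsHomLift f g :=
      IsHomLift.of_fac 𝒴.p f g (φ.w_obj a) (φ.w_obj b) rfl
    obtain ⟨b', c, hc⟩ := exists_lift g𝒳 (rfl : 𝒳.p.obj b = _) f
    obtain ⟨g', hg', rfl⟩ := exists_factor g𝒴 (φ.map c) (f := f) inferInstance g hg
    obtain ⟨k, -, rfl⟩ := hvert rfl (IsHomLift.domain_eq 𝒳.p f c) g' hg'
    exact ⟨k ≫ c, φ.toFunctor.map_comp k c⟩
  refine isEquivOver_of_ff_essSurj φ (essSurjOver_of_locally φ J h𝒳.1 h𝒴.1 fun y => ?_)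
  obtain ⟨t⟩ := hT (𝒴.p.obj y)
  obtain ⟨z, c, hc⟩ := exists_lift g𝒳 hs t
  obtain ⟨R, hR, hl⟩ := locIso h𝒴 (rfl : 𝒴.p.obj y = _)
    ((φ.w_obj z).trans (IsHomLift.domain_eq 𝒳.p t c))
  refine ⟨R, hR, fun V f hf => ?_⟩
  obtain ⟨y₀, ψ, χ, hψ, hχ⟩ := hl f hf
  obtain ⟨x₀, ρ, hρ⟩ := exists_lift g𝒳 (IsHomLift.domain_eq 𝒳.p t c) f
  obtain ⟨θ, hθ, -⟩ := exists_factor g𝒴 χ hχ (φ.map ρ) inferInstance
  exact ⟨x₀, θ ≫ ψ, IsHomLift.comp_lift_id_left' 𝒴.p V θ f ψ⟩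

end Global

section Endo

variable (φ : 𝒳 ⥤ᵇ 𝒳) {T : C} (hT : ∀ U : C, Nonempty (U ⟶ T)) (hT' : ∀ (U : C) (a b : U ⟶ T), a = b)
  (x : 𝒳.obj) (hx : 𝒳.p.obj x = T) (g : φ.obj x ⟶ x) (hg : 𝒳.p.IsHomLift (𝟙 (𝒳.p.obj x)) g)

/-- `g'` is the pullback of `g` along `c`. -/
structure IsRestr {z : 𝒳.obj} (c : z ⟶ x) (g' : φ.obj z ⟶ z) : Prop where
  lift : 𝒳.p.IsHomLift (𝟙 (𝒳.p.obj z)) g'
  comm : φ.map c ≫ g = g' ≫ c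

variable (hconj : ∀ (z : 𝒳.obj) (c : z ⟶ x) (g' : φ.obj z ⟶ z), 𝒳.p.IsHomLift (𝟙 (𝒳.p.obj z)) g' →
  φ.map c ≫ g = g' ≫ c → ∀ α : Gerb.AutO z, φ.map α.hom.1 ≫ g' = g' ≫ α.hom.1)
include hg

theorem exists_restr (h : FibCat.IsFibGrpd 𝒳.p) {z : 𝒳.obj} (c : z ⟶ x) :
    ∃ g' : φ.obj z ⟶ z, IsRestr φ x g c g' := by
  obtain ⟨g', hg', e⟩ := exists_factor h c (IsHomLift.map 𝒳.p c) (φ.map c ≫ g) inferInstance
  exact ⟨g', hg', e.symm⟩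

include hT' hx hconj

theorem IsRestr.natural (h : FibCat.IsFibGrpd 𝒳.p) {z z₁ : 𝒳.obj} {c : z ⟶ x} {c₁ : z₁ ⟶ x}
    {g' : φ.obj z ⟶ z} {g₁ : φ.obj z₁ ⟶ z₁} (hg' : IsRestr φ x g c g') (hg₁ : IsRestr φ x g c₁ g₁)
    (ρ : z₁ ⟶ z) : g₁ ≫ ρ = φ.map ρ ≫ g' := by
  have := hg'.lift
  have := hg₁.lift
  have hp : 𝒳.p.map (ρ ≫ c) = 𝒳.p.map c₁ := by
    subst hx
    exact hT' _ _ _
  have : 𝒳.p.IsHomLift (𝒳.p.map c₁) (ρ ≫ c) := hp ▸ inferInstance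
  obtain ⟨θ, hθ, hθe⟩ := exists_factor h c₁ (IsHomLift.map 𝒳.p c₁) (ρ ≫ c) this
  have e : φ.map θ ≫ g₁ = g₁ ≫ θ := hconj z₁ c₁ g₁ hg₁.lift hg₁.comm (toAutO h θ hθ)
  refine ext_lift h c (IsHomLift.map 𝒳.p c) (g := 𝒳.p.map ρ) inferInstance inferInstance ?_
  rw [Category.assoc, ← hθe, ← reassoc_of% e, ← hg₁.comm, Category.assoc, ← hg'.comm,
    ← φ.toFunctor.map_comp_assoc, hθe, φ.toFunctor.map_comp_assoc]

/-- A functor on a gerbe fixing a global object and its automorphisms is fibrewise isomorphic to the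
identity, naturally in all morphisms. -/
theorem exists_iso_id (hT : ∀ U : C, Nonempty (U ⟶ T)) (h𝒳 : Gerb.IsGerbe J 𝒳) :
    ∃ ρ : ∀ y : 𝒳.obj, φ.obj y ⟶ y,
      (∀ y, IsIso (ρ y) ∧ 𝒳.p.IsHomLift (𝟙 (𝒳.p.obj y)) (ρ y)) ∧
      (∀ (y y' : 𝒳.obj) (f : y ⟶ y'), φ.map f ≫ ρ y' = ρ y ≫ f) := by
  have h : FibCat.IsFibGrpd 𝒳.p := h𝒳.1.1
  let R : ∀ y : 𝒳.obj, Sieve (𝒳.p.obj y) := fun y =>
    { arrows := fun V f => ∃ (z : 𝒳.obj) (ψ : z ⟶ y) (_ : z ⟶ x), 𝒳.p.IsHomLift f ψ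
      downward_closed := by
        rintro V V' f ⟨z, ψ, c, hψ⟩ k
        obtain ⟨z', ρ, hρ⟩ := exists_lift h (IsHomLift.domain_eq 𝒳.p f ψ) k
        exact ⟨z', ρ ≫ ψ, ρ ≫ c, inferInstance⟩ }
  have hR : ∀ y, R y ∈ J (𝒳.p.obj y) := fun y => by
    obtain ⟨R', hR', hl⟩ := locPullback hT x hx h𝒳 (rfl : 𝒳.p.obj y = _)
    exact J.superset_covering (fun V f hf => hl f hf) hR'
  have ex : ∀ y, ∃ r : φ.obj y ⟶ y, 𝒳.p.IsHomLift (𝟙 (𝒳.p.obj y)) r ∧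
      ∀ (z : 𝒳.obj) (ψ : z ⟶ y) (c : z ⟶ x) (g' : φ.obj z ⟶ z), IsRestr φ x g c g' →
        φ.map ψ ≫ r = g' ≫ ψ := by
    intro y
    obtain ⟨-, hG, -⟩ := (isStackFor_iff h).mp (h𝒳.1.2 _ (hR y))
    choose z₀ ψ₀ c₀ hψ₀ using fun {V : C} (f : V ⟶ 𝒳.p.obj y) (hf : (R y).arrows f) =>
      (show ∃ (z : 𝒳.obj) (ψ : z ⟶ y) (_ : z ⟶ x), 𝒳.p.IsHomLift f ψ from hf)
    choose g₀ hg₀ using fun {V : C} (f : V ⟶ 𝒳.p.obj y) (hf : (R y).arrows f) =>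
      exists_restr φ x g hg h (c₀ f hf)
    have hF : ∀ {V : C} (f : V ⟶ 𝒳.p.obj y) (hf : (R y).arrows f), 𝒳.p.IsHomLift f (φ.map (ψ₀ f hf)) :=
      fun f hf => haveI := hψ₀ f hf; inferInstance
    choose ν hν hνe using fun {V : C} (f : V ⟶ 𝒳.p.obj y) (hf : (R y).arrows f) {w : 𝒳.obj}
      (ψ : w ⟶ φ.obj y) (hψ : 𝒳.p.IsHomLift f ψ) => exists_factor h _ (hF f hf) ψ hψ
    let c : Fam (R y) 𝒳 (φ.obj y) y := fun V f hf w ψ hψ => ν f hf ψ hψ ≫ g₀ f hf ≫ ψ₀ f hf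
    have hc : c.Compatible := by
      refine ⟨fun V f hf w ψ hψ => ?_, fun V f hf w ψ hψ V' k w' ρ hρ hψ' => ?_⟩
      · have := hψ₀ f hf
        have := hν f hf ψ hψ
        have h1 := (hg₀ f hf).lift
        have : 𝒳.p.IsHomLift (𝟙 V) (g₀ f hf) := isHomLift_id_congr (IsHomLift.domain_eq 𝒳.p f (ψ₀ f hf)) _ h1
        change 𝒳.p.IsHomLift f (ν f hf ψ hψ ≫ g₀ f hf ≫ ψ₀ f hf)
        infer_instance
      · have hkf : (R y).arrows (k ≫ f) := (R y).downward_closed hf k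
        have := hψ₀ f hf
        have := hψ₀ _ hkf
        have := hν f hf ψ hψ
        have := hν _ hkf (ρ ≫ ψ) hψ'
        have := cart h (ψ₀ f hf) (hψ₀ f hf)
        obtain ⟨σ, hσ, hσe⟩ := (IsStronglyCartesian.universal_property 𝒳.p f (ψ₀ f hf) k (k ≫ f) rfl
          (ψ₀ _ hkf)).exists
        have e2 : ν _ hkf (ρ ≫ ψ) hψ' ≫ φ.map σ = ρ ≫ ν f hf ψ hψ := by
          refine ext_lift h _ (hF f hf) (g := k) inferInstance inferInstance ?_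
          rw [Category.assoc, ← φ.toFunctor.map_comp, hσe, hνe, Category.assoc, hνe]
        change ν _ hkf (ρ ≫ ψ) hψ' ≫ g₀ _ hkf ≫ ψ₀ _ hkf = ρ ≫ ν f hf ψ hψ ≫ g₀ f hf ≫ ψ₀ f hf
        rw [← hσe, reassoc_of% (IsRestr.natural φ hT' x hx g hg hconj h (hg₀ f hf) (hg₀ _ hkf) σ),
          reassoc_of% e2]
    obtain ⟨r, hr, hre⟩ := hG (φ.w_obj y) rfl c hc
    refine ⟨r, hr, fun z ψ d g' hg' => ?_⟩
    have hf : (R y).arrows (𝒳.p.map ψ) := ⟨z, ψ, d, inferInstance⟩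
    obtain ⟨σ, hσ, hσe⟩ := exists_factor h _ (hψ₀ _ hf) ψ inferInstance
    rw [hre _ hf (φ.map ψ) inferInstance]
    change ν _ hf (φ.map ψ) _ ≫ g₀ _ hf ≫ ψ₀ _ hf = g' ≫ ψ
    have e : ν _ hf (φ.map ψ) inferInstance = φ.map σ := by
      refine ext_lift h _ (hF _ hf) (hν _ hf (φ.map ψ) inferInstance) inferInstance ?_
      rw [hνe, ← φ.toFunctor.map_comp, hσe]
    rw [e, ← reassoc_of% (IsRestr.natural φ hT' x hx g hg hconj h (hg₀ _ hf) hg' σ), hσe]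
  choose r hr hre using ex
  refine ⟨r, fun y => ⟨isIso_of_vertical h (r y) (hr y), hr y⟩, fun y y' f => ?_⟩
  obtain ⟨hS, -, -⟩ := (isStackFor_iff h).mp (h𝒳.1.2 _ (hR y))
  have := hr y
  have := hr y'
  have hb : 𝒳.p.IsHomLift (𝒳.p.map f) (φ.map f ≫ r y') := inferInstance
  obtain ⟨k, hk, hke⟩ := exists_factor h f (IsHomLift.map 𝒳.p f) (φ.map f ≫ r y') hb
  suffices k = r y by rw [← hke, this]
  refine hS k (r y) hk inferInstance fun V v hv w χ hχ => ?_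
  obtain ⟨z, ψ, c, hψ⟩ := hv
  obtain ⟨ν, -, rfl⟩ := exists_factor h (φ.map ψ) (f := v) inferInstance χ hχ
  obtain ⟨g', hg'⟩ := exists_restr φ x g hg h c
  obtain rfl : 𝒳.p.obj z = V := IsHomLift.domain_eq 𝒳.p v ψ
  have := hg'.lift
  rw [Category.assoc, Category.assoc, hre y z ψ c g' hg']
  congr 1
  refine ext_lift h f (IsHomLift.map 𝒳.p f) (g := v) inferInstance inferInstance ?_
  rw [Category.assoc, hke, ← φ.toFunctor.map_comp_assoc, hre y' z (ψ ≫ f) c g' hg', Category.assoc]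

end Endo

section Inverse

variable {φ : 𝒳 ⥤ᵇ 𝒴} (ψ : 𝒴 ⥤ᵇ 𝒳) (x : 𝒳.obj) (g : ψ.obj (φ.obj x) ⟶ x)

/-- Conjugation by the image of `g` is the identity of the automorphisms of the pullbacks of `φ x`, when
it is so for those of `x` and `φ` is surjective on automorphisms. -/
theorem conj_image (h𝒳 : FibCat.IsFibGrpd 𝒳.p) (h𝒴 : FibCat.IsFibGrpd 𝒴.p)
    (hg : 𝒳.p.IsHomLift (𝟙 (𝒳.p.obj x)) g)
    (hφ : ∀ (x' : 𝒳.obj) (_ : x' ⟶ x), Function.Surjective (Gerb.autMap φ x'))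
    (hconj : ∀ (x' : 𝒳.obj) (c : x' ⟶ x) (g' : ψ.obj (φ.obj x') ⟶ x'), 𝒳.p.IsHomLift (𝟙 (𝒳.p.obj x')) g' →
      ψ.map (φ.map c) ≫ g = g' ≫ c → ∀ α : Gerb.AutO x', ψ.map (φ.map α.hom.1) ≫ g' = g' ≫ α.hom.1)
    (z : 𝒴.obj) (c : z ⟶ φ.obj x) (g' : φ.obj (ψ.obj z) ⟶ z) (hg' : 𝒴.p.IsHomLift (𝟙 (𝒴.p.obj z)) g')
    (he : φ.map (ψ.map c) ≫ φ.map g = g' ≫ c) (α : Gerb.AutO z) :
    φ.map (ψ.map α.hom.1) ≫ g' = g' ≫ α.hom.1 := by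
  obtain ⟨x', d, hd⟩ := exists_lift h𝒳 (rfl : 𝒳.p.obj x = _)
    (𝒴.p.map c ≫ eqToHom (φ.w_obj x))
  have hc : 𝒴.p.IsHomLift (𝒴.p.map c ≫ eqToHom (φ.w_obj x)) c :=
    IsHomLift.of_fac 𝒴.p _ c rfl (φ.w_obj x) (by simp)
  obtain ⟨θ, hθ, hθe⟩ := exists_factor h𝒴 (φ.map d) (f := 𝒴.p.map c ≫ eqToHom (φ.w_obj x)) inferInstance c hc
  have := isIso_of_vertical h𝒴 θ hθ
  have hx' : 𝒳.p.obj x' = 𝒴.p.obj z := IsHomLift.domain_eq 𝒳.p (𝒴.p.map c ≫ eqToHom (φ.w_obj x)) d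
  obtain ⟨g₂, hg₂, hg₂e⟩ := exists_factor h𝒳 d hd (f := 𝒴.p.map c ≫ eqToHom (φ.w_obj x))
    (ψ.map (φ.map d) ≫ g) inferInstance
  have hα : 𝒴.p.IsHomLift (𝟙 (𝒴.p.obj z)) α.hom.1 := α.hom.2
  have hβ : 𝒴.p.IsHomLift (𝟙 (𝒴.p.obj (φ.obj x'))) (inv θ ≫ α.hom.1 ≫ θ) := by
    refine isHomLift_id_congr ((φ.w_obj x').trans hx').symm _ ?_
    infer_instance
  obtain ⟨α', hα'⟩ := hφ x' d (toAutO h𝒴 _ hβ)
  have hα'' : φ.map α'.hom.1 = inv θ ≫ α.hom.1 ≫ θ :=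
    congrArg (fun β : Gerb.AutO (φ.obj x') => β.hom.1) hα'
  have hc' := hconj x' d g₂ (isHomLift_id_congr hx'.symm _ hg₂) hg₂e.symm α'
  have hgg : φ.map (ψ.map θ) ≫ φ.map g₂ = g' ≫ θ := by
    refine ext_lift h𝒴 (φ.map d) (f := 𝒴.p.map c ≫ eqToHom (φ.w_obj x)) inferInstance
      (g := 𝟙 (𝒴.p.obj z)) inferInstance inferInstance ?_
    rw [Category.assoc, Category.assoc, ← φ.toFunctor.map_comp g₂, hg₂e, φ.toFunctor.map_comp,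
      hθe, ← he, ← φ.toFunctor.map_comp_assoc, ← ψ.toFunctor.map_comp, hθe]
  rw [← cancel_mono θ, Category.assoc, Category.assoc]
  have e1 : α.hom.1 ≫ θ = θ ≫ φ.map α'.hom.1 := by rw [hα'']; simp
  rw [e1, ← hgg, ← reassoc_of% hgg, ← φ.toFunctor.map_comp g₂, ← hc', φ.toFunctor.map_comp,
    ← φ.toFunctor.map_comp_assoc, ← φ.toFunctor.map_comp_assoc, ← ψ.toFunctor.map_comp, e1,
    ψ.toFunctor.map_comp]

end Inverse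

end Groth.Agent.Lib.Gerb.Local
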